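import Groth.Agent.RpushStalk.Model
import Groth.Agent.EtFound.Henselian
import Groth.Agent.EtLim8.HMaps

/-!
# The stalk of a direct image is the group of sections over the strict localization
-/

set_option autoImplicit false
set_option linter.style.haveILetI false
set_option linter.unusedSectionVars false
set_option linter.unusedVariables false
set_option backward.isDefEq.respectTransparency false
set_option backward.isDefEq.respectTransparency.types false
universe u

open CategoryTheory CategoryTheory.Limits AlgebraicGeometry Opposite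

namespace Groth.Agent.RpushStalk

open H0PBC H0FBC EtLim8

section lift

variable {S : Scheme.{u}} {R : Type u} [CommRing R] [HenselianLocalRing R] (h : Spec (CommRingCat.of R) ⟶ S)

/-- étale neighbourhoods of the closed point receive a unique map from the strict localization -/
theorem existsUnique_lift (U : S.Etale) (u : Spec (CommRingCat.of (IsLocalRing.ResidueField R)) ⟶ U.left)
    (hu : u ≫ U.hom = EtFound.cpt R ≫ h) :
    ∃! q : Spec (CommRingCat.of R) ⟶ U.left, q ≫ U.hom = h ∧ EtFound.cpt R ≫ q = u := by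
  haveI : AlgebraicGeometry.Etale U.hom := U.prop
  obtain ⟨σ, ⟨h₁, h₂⟩, huniq⟩ := EtFound.existsUnique_section R (pullback.snd U.hom h)
    (pullback.lift u (EtFound.cpt R) hu) (pullback.lift_snd _ _ _)
  refine ⟨σ ≫ pullback.fst U.hom h, ⟨?_, ?_⟩, ?_⟩
  · rw [Category.assoc, pullback.condition, ← Category.assoc, h₁]
    exact Category.id_comp _
  · rw [← Category.assoc, h₂]
    exact pullback.lift_fst _ _ _
  · rintro q ⟨hq₁, hq₂⟩
    have hq : q ≫ U.hom = 𝟙 _ ≫ h := hq₁.trans (Category.id_comp _).symm
    rw [← huniq (pullback.lift q (𝟙 _) hq) ⟨pullback.lift_snd _ _ _, ?_⟩]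
    · exact (pullback.lift_fst _ _ _).symm
    · refine pullback.hom_ext ?_ ?_
      · rw [Category.assoc, pullback.lift_fst, hq₂]
        exact (pullback.lift_fst _ _ _).symm
      · rw [Category.assoc, pullback.lift_snd, Category.comp_id]
        exact (pullback.lift_snd _ _ _).symm

variable [IsSepClosed (IsLocalRing.ResidueField R)] (U : S.Etale)
  (v : (Scheme.pointSmallEtale (EtFound.cpt R ≫ h)).fiber.obj U)

/-- the lift of a geometric point -/
noncomputable def lift : Spec (CommRingCat.of R) ⟶ U.left :=
  (existsUnique_lift h U v.left (CategoryTheory.Over.w v)).exists.choose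

theorem lift_w : lift h U v ≫ U.hom = h :=
  (existsUnique_lift h U v.left (CategoryTheory.Over.w v)).exists.choose_spec.1

theorem cpt_lift : EtFound.cpt R ≫ lift h U v = v.left :=
  (existsUnique_lift h U v.left (CategoryTheory.Over.w v)).exists.choose_spec.2

theorem lift_unique (q : Spec (CommRingCat.of R) ⟶ U.left) (hq : q ≫ U.hom = h)
    (hq' : EtFound.cpt R ≫ q = v.left) : lift h U v = q :=
  (existsUnique_lift h U v.left (CategoryTheory.Over.w v)).unique ⟨lift_w h U v, cpt_lift h U v⟩ ⟨hq, hq'⟩

theorem lift_map {V : S.Etale} (g : U ⟶ V) :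
    lift h V ((Scheme.pointSmallEtale (EtFound.cpt R ≫ h)).fiber.map g v) = lift h U v ≫ g.left := by
  refine lift_unique h V _ _ ?_ ?_
  · exact (Category.assoc _ _ _).trans ((congrArg (_ ≫ ·) (MorphismProperty.Over.w g)).trans (lift_w h U v))
  · exact (Category.assoc _ _ _).symm.trans (congrArg (· ≫ g.left) (cpt_lift h U v))

variable {T : Scheme.{u}} (f : T ⟶ S)

/-- the map from the strict localization to the base change of a neighbourhood -/
noncomputable def toBcLift : (EtCoh.top (pullback h f)).left ⟶ ((EtCoh.bc f).obj U).left :=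
  pullback.lift (pullback.fst h f ≫ lift h U v) (pullback.snd h f)
    (by rw [Category.assoc, lift_w]; exact pullback.condition)

theorem toBcLift_w : toBcLift h U v f ≫ ((EtCoh.bc f).obj U).hom =
    (EtCoh.top (pullback h f)).hom ≫ pullback.snd h f :=
  (pullback.lift_snd _ _ _).trans (Category.id_comp _).symm

theorem toBcLift_map {V : S.Etale} (g : U ⟶ V) :
    toBcLift h U v f ≫ ((EtCoh.bc f).map g).left =
      toBcLift h V ((Scheme.pointSmallEtale (EtFound.cpt R ≫ h)).fiber.map g v) f := by
  refine pullback.hom_ext ?_ ?_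
  · rw [Category.assoc]
    refine (congrArg (_ ≫ ·) (EtCoh.isPullback_bc_map f g).w).trans ?_
    rw [toBcLift, pullback.lift_fst_assoc, toBcLift, pullback.lift_fst, lift_map, Category.assoc]
  · rw [Category.assoc]
    refine (congrArg (_ ≫ ·) (MorphismProperty.Over.w ((EtCoh.bc f).map g))).trans ?_
    exact (pullback.lift_snd _ _ _).trans (pullback.lift_snd _ _ _).symm

end lift

variable {S T : Scheme.{u}} {R : Type u} [CommRing R] [HenselianLocalRing R]
  [IsSepClosed (IsLocalRing.ResidueField R)] (h : Spec (CommRingCat.of R) ⟶ S) (f : T ⟶ S)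

/-- sections over the whole space -/
noncomputable abbrev gam (X : Scheme.{u}) : EtCoh.Ab X ⥤ AddCommGrpCat.{u + 1} :=
  sheafToPresheaf _ _ ⋙ (evaluation _ AddCommGrpCat.{u + 1}).obj (op (EtCoh.top X))

/-- a section over a neighbourhood restricted to the strict localization -/
noncomputable abbrev phiHom (F : EtCoh.Ab T) (U : S.Etale)
    (v : (Scheme.pointSmallEtale (EtFound.cpt R ≫ h)).fiber.obj U) :
    ((EtCoh.push f).obj F).obj.obj (op U) →+
      ((EtCoh.pull (pullback.snd h f)).obj F).obj.obj (op (EtCoh.top (pullback h f))) :=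
  res (pullback.snd h f) ((EtCoh.pullPushAdj (pullback.snd h f)).unit.app F) (toBcLift h U v f)
    (toBcLift_w h U v f)

theorem phiHom_map (F : EtCoh.Ab T) {U V : S.Etale} (g : U ⟶ V)
    (v : (Scheme.pointSmallEtale (EtFound.cpt R ≫ h)).fiber.obj U)
    (s : ((EtCoh.push f).obj F).obj.obj (op V)) :
    phiHom h f F U v (((EtCoh.push f).obj F).obj.map g.op s) =
      phiHom h f F V ((Scheme.pointSmallEtale (EtFound.cpt R ≫ h)).fiber.map g v) s :=
  res_map_left (V := (EtCoh.bc f).obj U) (V' := (EtCoh.bc f).obj V) (W := EtCoh.top (pullback h f))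
    ((EtCoh.pullPushAdj (pullback.snd h f)).unit.app F) (toBcLift h U v f) (toBcLift_w h U v f)
    ((EtCoh.bc f).map g) _ (toBcLift_map h U v f g) (toBcLift_w h V _ f) s

/-- the comparison, objectwise -/
noncomputable def phiApp (F : EtCoh.Ab T) :
    (EtCoh.stalk (EtFound.cpt R ≫ h)).obj ((EtCoh.push f).obj F) ⟶
      ((EtCoh.pull (pullback.snd h f)).obj F).obj.obj (op (EtCoh.top (pullback h f))) :=
  (Scheme.pointSmallEtale (EtFound.cpt R ≫ h)).presheafFiberDesc
    (fun U v => AddCommGrpCat.ofHom (phiHom h f F U v))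
    (fun U V g v => AddCommGrpCat.hom_ext (AddMonoidHom.ext fun s => phiHom_map h f F g v s))

theorem phiApp_germ (F : EtCoh.Ab T) (U : S.Etale) (v : (Scheme.pointSmallEtale (EtFound.cpt R ≫ h)).fiber.obj U)
    (s : ((EtCoh.push f).obj F).obj.obj (op U)) :
    phiApp h f F ((Scheme.pointSmallEtale (EtFound.cpt R ≫ h)).toPresheafFiber U v
      ((EtCoh.push f).obj F).obj s) = phiHom h f F U v s :=
  (ConcreteCategory.comp_apply _ _ _).symm.trans <| ConcreteCategory.congr_hom ((Scheme.pointSmallEtale (EtFound.cpt R ≫ h)).toPresheafFiber_presheafFiberDesc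
    (P := ((EtCoh.push f).obj F).obj) (fun U v => AddCommGrpCat.ofHom (phiHom h f F U v)) _ U v) s

theorem phiHom_naturality {F G : EtCoh.Ab T} (η : F ⟶ G) (U : S.Etale)
    (v : (Scheme.pointSmallEtale (EtFound.cpt R ≫ h)).fiber.obj U)
    (s : ((EtCoh.push f).obj F).obj.obj (op U)) :
    phiHom h f G U v ((η.hom.app (op ((EtCoh.bc f).obj U))).hom s) =
      (((EtCoh.pull (pullback.snd h f)).map η).hom.app (op (EtCoh.top _))).hom (phiHom h f F U v s) := by
  refine Eq.trans (res_comp_left η ((EtCoh.pullPushAdj (pullback.snd h f)).unit.app G) (V := (EtCoh.bc f).obj U)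
    (W := EtCoh.top (pullback h f)) (toBcLift h U v f) (toBcLift_w h U v f) s).symm (Eq.trans ?_
    (res_comp_push_map ((EtCoh.pullPushAdj (pullback.snd h f)).unit.app F) ((EtCoh.pull (pullback.snd h f)).map η)
      (V := (EtCoh.bc f).obj U) (W := EtCoh.top (pullback h f)) (toBcLift h U v f) (toBcLift_w h U v f) s))
  refine congrArg (fun l => res (pullback.snd h f) l (V := (EtCoh.bc f).obj U) (W := EtCoh.top (pullback h f))
    (toBcLift h U v f) (toBcLift_w h U v f) s) ?_
  exact (EtCoh.pullPushAdj (pullback.snd h f)).unit.naturality η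

theorem phiApp_naturality {F G : EtCoh.Ab T} (η : F ⟶ G) :
    (EtCoh.stalk (EtFound.cpt R ≫ h)).map ((EtCoh.push f).map η) ≫ phiApp h f G =
      phiApp h f F ≫ ((EtCoh.pull (pullback.snd h f)).map η).hom.app (op (EtCoh.top _)) := by
  refine AddCommGrpCat.hom_ext (AddMonoidHom.ext fun x => ?_)
  obtain ⟨U, v, s, rfl⟩ := (Scheme.pointSmallEtale (EtFound.cpt R ≫ h)).toPresheafFiber_jointly_surjective
    (P := ((EtCoh.push f).obj F).obj) x
  show phiApp h f G ((EtCoh.stalk _).map ((EtCoh.push f).map η) _) = _
  refine (congrArg (phiApp h f G) (ConcreteCategory.congr_hom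
    ((Scheme.pointSmallEtale (EtFound.cpt R ≫ h)).toPresheafFiber_naturality ((EtCoh.push f).map η).hom U v) s)).trans ?_
  refine (phiApp_germ h f G U v _).trans ?_
  refine (phiHom_naturality h f η U v s).trans ?_
  exact congrArg _ (phiApp_germ h f F U v s).symm

/-- the comparison from the stalk to the sections over the strict localization -/
noncomputable def phi : EtCoh.push f ⋙ EtCoh.stalk (EtFound.cpt R ≫ h) ⟶
    EtCoh.pull (pullback.snd h f) ⋙ gam (pullback h f) where
  app F := phiApp h f F
  naturality F G η := phiApp_naturality h f η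

end Groth.Agent.RpushStalk
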