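import Groth.Agent.EtLim8.Const
import Groth.Agent.EtLim8.Coh

/-!
# Systems pulled back from a scheme below an inverse system
-/

set_option autoImplicit false
set_option linter.style.haveILetI false
set_option linter.unusedSectionVars false
set_option linter.unusedVariables false
set_option backward.isDefEq.respectTransparency.types false

universe u

open CategoryTheory CategoryTheory.Limits AlgebraicGeometry Opposite Abelian

namespace Groth.Agent.RpushStalk

open EtLim8

variable {ι : Type u} [Preorder ι] [IsDirected ι (· ≤ ·)] [Nonempty ι] {Xs : ιᵒᵖ ⥤ Scheme.{u}} {T : Scheme.{u}}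
  (t : ∀ i, Xs.obj (op i) ⟶ T) (ht : ∀ ⦃i j : ι⦄ (h : i ≤ j), tr Xs h ≫ t i = t j) (F : EtCoh.Ab T)

/-- the inverse images of a sheaf on a scheme below the system -/
noncomputable def baseSys : Sys Xs where
  F i := (EtCoh.pull (t i)).obj F
  l := fun i j h => (EtCoh.pullPushAdj (tr Xs h)).homEquiv _ _ (pullCmp (t i) (tr Xs h) (t j) (ht h) F).hom
  comp := fun i j k hij hjk => compat_of_generated (ht hij) (tr_comp Xs hij hjk)
    (ht (hij.trans hjk)) (ht hjk)
    ((EtCoh.pullPushAdj (t j)).unit.app F) ((EtCoh.pullPushAdj (t k)).unit.app F) _ _ _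
    (compat_pullCmp _ _ _ _ F) (compat_pullCmp _ _ _ _ F) (compat_pullCmp _ _ _ _ F)

theorem baseSys_isUnital : (baseSys t ht F).IsUnital := by
  rw [isUnital_iff]
  intro j
  apply ((EtCoh.pullPushAdj (t j)).homEquiv _ _).injective
  rw [Adjunction.homEquiv_unit, Adjunction.homEquiv_unit]
  refine ((compat_iff (ht (le_refl j)) _ _ _).1
    (compat_pullCmp (t j) (tr Xs (le_refl j)) (t j) (ht (le_refl j)) F)).trans ?_
  refine congrArg ((EtCoh.pullPushAdj (t j)).unit.app F ≫ ·) ?_
  refine Sheaf.hom_ext (NatTrans.ext (funext fun V => AddCommGrpCat.hom_ext (AddMonoidHom.ext fun s => ?_)))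
  change ((EtCoh.pull (t j)).obj F).obj.map
      (bcCmp (t j) (tr Xs (le_refl j)) (t j) (ht (le_refl j)) V.unop).hom.op s =
    ((EtCoh.pull (t j)).obj F).obj.map _ s
  refine congrArg (fun r => (((EtCoh.pull (t j)).obj F).obj.map r).hom s)
    (congrArg Quiver.Hom.op (hom_bc_ext ?_))
  exact liftBc_fst _ _ _

variable (c : Cone Xs) (r : c.pt ⟶ T) (hr : ∀ i, pr c i ≫ t i = r)

/-- the comparison with the inverse image on the limit -/
noncomputable def baseColimHom : colimit ((baseSys t ht F).diag c (baseSys_isUnital t ht F)).G ⟶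
    (EtCoh.pull r).obj F :=
  (baseSys t ht F).descColim (baseSys_isUnital t ht F)
    (fun j => (pullCmp (t j) (pr c j) r (hr j) F).hom)
    (fun i j h => compat_of_generated (ht h) (pr_tr c h) (hr i) (hr j)
      ((EtCoh.pullPushAdj (t j)).unit.app F) ((EtCoh.pullPushAdj r).unit.app F) _ _ _
      (compat_pullCmp _ _ _ _ F) (compat_pullCmp _ _ _ _ F) (compat_pullCmp _ _ _ _ F))

theorem isIso_baseColimHom : IsIso (baseColimHom t ht F c r hr) :=
  Sys.isIso_descColim _ (baseSys_isUnital t ht F) _
    (fun i j h => compat_of_generated (ht h) (pr_tr c h) (hr i) (hr j)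
      ((EtCoh.pullPushAdj (t j)).unit.app F) ((EtCoh.pullPushAdj r).unit.app F) _ _ _
      (compat_pullCmp _ _ _ _ F) (compat_pullCmp _ _ _ _ F) (compat_pullCmp _ _ _ _ F))
    (fun j => inferInstance)

variable [hA : ∀ {a b : ιᵒᵖ} (h : a ⟶ b), IsAffineHom (Xs.map h)]

include t ht hr in
/-- inverse images to the limit of sheaves which are injective at all stages are acyclic -/
theorem subsingleton_H_pull_limit (hc : IsLimit c) (hqc : ∀ a, CompactSpace ↥(Xs.obj a))
    (hqs : ∀ a, QuasiSeparatedSpace ↥(Xs.obj a)) (hI : ∀ i, Injective ((EtCoh.pull (t i)).obj F)) (q : ℕ) :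
    Subsingleton (EtCoh.H c.pt ((EtCoh.pull r).obj F) (q + 1)) := by
  let S := baseSys t ht F
  let D := S.diag c (baseSys_isUnital t ht F)
  haveI : Subsingleton (EtCoh.H c.pt (colimit D.G) (q + 1)) :=
    subsingleton_H_of_isLimAcyclic hc hqc hqs q _
      (isLimAcyclic_of_injective_sys (T := D.target) (baseSys_isUnital t ht F) hc D.isColim hI)
  haveI := isIso_baseColimHom t ht F c r hr
  exact (EtAcycLib.bijective_comp_mk₀ (asIso (baseColimHom t ht F c r hr))).2.subsingleton

end Groth.Agent.RpushStalk
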