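import Groth.Agent.RpushStalk.PhiBij
import Groth.Agent.RpushStalk.BaseSys
import Groth.Agent.SiteBase.DerivedPrecompAcyclic
import Groth.Agent.SiteBase.DerivedComp
import Groth.Agent.H9Misc.SupportsSS
import Groth.Agent.EtLC12.AffineLocalAcyclic

/-!
# Stalks of higher direct images are cohomology groups of the strict localization
-/

set_option autoImplicit false
set_option linter.style.haveILetI false
set_option linter.unusedSectionVars false
set_option linter.unusedVariables false
set_option backward.isDefEq.respectTransparency false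
set_option backward.isDefEq.respectTransparency.types false
universe u

open CategoryTheory CategoryTheory.Limits AlgebraicGeometry Opposite Abelian

namespace Groth.Agent.RpushStalk

open H0PBC H0FBC EtLim8
open Groth.Agent.Hensel (Henz Nbhd NbhdCat)
open Groth.Agent.SpObjSS (homFrom)

attribute [local instance] preservesFiniteLimits_pull

/-- morphisms from the constant sheaf are global sections -/
noncomputable def homFromIsoGam (X : Scheme.{u}) : homFrom (EtCoh.const X ℤ) ≅ gam X :=
  NatIso.ofComponents
    (fun F => AddEquiv.toAddCommGrpIso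
      (((constantSheafAdj X.smallEtaleTopology AddCommGrpCat.{u + 1} (EtCore.topIsTerminal X)).homAddEquiv _ F).trans
        (AddCommGrpCat.uliftZMultiplesAddEquiv _)))
    (fun {F G} φ => AddCommGrpCat.hom_ext (AddMonoidHom.ext fun η => by
      exact congrArg (fun k : AddCommGrpCat.of (ULift.{u + 1} ℤ) ⟶ _ => k.hom (⟨1⟩ : ULift.{u + 1} ℤ))
        ((constantSheafAdj X.smallEtaleTopology AddCommGrpCat.{u + 1}
          (EtCore.topIsTerminal X)).homEquiv_naturality_right η φ)))

/-- the derived functors of global sections are the cohomology functors -/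
noncomputable def rightDerivedIsoHF (X : Scheme.{u}) (n : ℕ) :
    (homFrom (EtCoh.const X ℤ)).rightDerived n ≅ EtCoh.HF X n :=
  SuppCore.rightDerivedHomFromNatIso (EtCoh.const X ℤ) n ≪≫
    NatIso.ofComponents (fun F => Iso.refl _) (fun _ => (Category.comp_id _).trans (Category.id_comp _).symm)

variable {S T : Scheme.{u}} {R : Type u} [CommRing R] [HenselianLocalRing R]
  [IsSepClosed (IsLocalRing.ResidueField R)] {h : Spec (CommRingCat.of R) ⟶ S} (D : Model S R h) (f : T ⟶ S)
  [QuasiCompact f] [QuasiSeparated f]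

include D in
/-- inverse images of injectives to the strict localization are acyclic -/
theorem subsingleton_H_pull_injective (I : EtCoh.Ab T) [Injective I] (q : ℕ) :
    Subsingleton (EtCoh.H (pullback (ym D.ι R) f) ((EtCoh.pull (pullback.snd (ym D.ι R) f)).obj I) (q + 1)) := by
  obtain ⟨α, _, _, _, F, _⟩ := IsFiltered.exists_directed (NbhdCat D.B D.Ω)
  haveI hA : ∀ {a b : αᵒᵖ} (g : a ⟶ b), IsAffineHom ((D.stages f F).map g) :=
    fun {a b} g => D.isAffineHom_stages f F g
  refine subsingleton_H_pull_limit (Xs := D.stages f F) (fun a => pullback.snd (ym D.ι (F.obj a).N.B) f)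
    (fun i j hij => pmap_snd f D.ι _) I (D.cone f F) (pullback.snd (ym D.ι R) f) (fun i => pmap_snd f D.ι _)
    (D.isLimitCone f F) (fun a => ?_) (fun a => ?_) (fun a => ?_) q
  · exact QuasiCompact.compactSpace_of_compactSpace (pullback.fst (ym D.ι (F.obj a.unop).N.B) f)
  · exact quasiSeparatedSpace_of_quasiSeparated (pullback.fst (ym D.ι (F.obj a.unop).N.B) f)
  · haveI : AlgebraicGeometry.Etale (ym D.ι (F.obj a).N.B) := (stageEt D.ι (F.obj a).N.B).prop
    let t : pullback (ym D.ι (F.obj a).N.B) f ⟶ T := pullback.snd _ _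
    haveI : AlgebraicGeometry.Etale t := inferInstance
    haveI : EtShriek.JCont t := EtFound.jCont t
    exact EtLC12.AffineLocalAcyclic.injective_pull t I

include D in
/-- stalks of higher direct images -/
theorem nonempty_iso (n : ℕ) :
    Nonempty (EtCoh.Rpush f n ⋙ EtCoh.stalk (EtFound.cpt R ≫ ym D.ι R) ≅
      EtCoh.pull (pullback.snd (ym D.ι R) f) ⋙ EtCoh.HF (pullback (ym D.ι R) f) n) := by
  haveI : ∀ F, IsIso ((phi (ym D.ι R) f).app F) := fun F => isIso_phiApp D f F
  haveI := NatIso.isIso_of_isIso_app (phi (ym D.ι R) f)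
  let r := pullback.snd (ym D.ι R) f
  haveI : (EtCoh.stalk (EtFound.cpt R ≫ ym D.ι R)).Additive := Functor.additive_of_preserves_binary_products _
  let e₀ : EtCoh.push f ⋙ EtCoh.stalk (EtFound.cpt R ≫ ym D.ι R) ≅
      EtCoh.pull r ⋙ homFrom (EtCoh.const (pullback (ym D.ι R) f) ℤ) :=
    asIso (phi (ym D.ι R) f) ≪≫ Functor.isoWhiskerLeft _ (homFromIsoGam _).symm
  obtain ⟨e₁⟩ := SiteBase.nonempty_rightDerived_precomp_of_acyclic (EtCoh.pull r)
    (homFrom (EtCoh.const (pullback (ym D.ι R) f) ℤ)) (fun Q hQ i => by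
      refine IsZero.of_iso ?_ ((rightDerivedIsoHF _ (i + 1)).app _)
      haveI := subsingleton_H_pull_injective D f Q i
      exact @AddCommGrpCat.isZero_of_subsingleton (AddCommGrpCat.of _) this) n
  exact ⟨(SiteBase.rightDerivedCompIso (EtCoh.push f) (EtCoh.stalk (EtFound.cpt R ≫ ym D.ι R)) n).symm ≪≫
    SiteBase.rightDerivedCongr e₀ n ≪≫ e₁ ≪≫ Functor.isoWhiskerLeft _ (rightDerivedIsoHF _ n)⟩

end Groth.Agent.RpushStalk
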