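import Groth.Agent.RpushStalk.Main
import Groth.Agent.EtAcycLib.Compose

/-!
# Stalks of higher direct images, in the standard presentation
-/

set_option autoImplicit false
set_option linter.style.haveILetI false
set_option linter.unusedSectionVars false
set_option linter.unusedVariables false
set_option backward.isDefEq.respectTransparency false
set_option backward.isDefEq.respectTransparency.types false
universe u

open CategoryTheory CategoryTheory.Limits AlgebraicGeometry Opposite Abelian

namespace Groth.Agent.RpushStalk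

open H0PBC EtLim8

attribute [local instance] preservesFiniteLimits_pull

theorem hpull_naturality {P Q : Scheme.{u}} (u : Q ⟶ P) (n : ℕ) {F G : EtCoh.Ab P} (η : F ⟶ G)
    (ξ : EtCoh.H P F n) :
    EtLim.HpullThen u G (𝟙 _) n (ξ.comp (Ext.mk₀ η) (add_zero n)) =
      (EtLim.HpullThen u F (𝟙 _) n ξ).comp (Ext.mk₀ ((EtCoh.pull u).map η)) (add_zero n) :=
  (HpullThen_mk₀ u η (𝟙 _) n ξ).trans
    ((congrArg (fun r => EtLim.HpullThen u F r n ξ)
      ((Category.comp_id _).trans (Category.id_comp _).symm)).trans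
      (HpullThen_comp_mk₀ u (𝟙 _) ((EtCoh.pull u).map η) n ξ).symm)

set_option maxHeartbeats 1000000 in
/-- pullback on cohomology, natural in the sheaf -/
noncomputable def hpullNat {P Q : Scheme.{u}} (u : Q ⟶ P) (n : ℕ) :
    EtCoh.HF P n ⟶ EtCoh.pull u ⋙ EtCoh.HF Q n where
  app F := AddCommGrpCat.ofHom (EtLim.HpullThen u F (𝟙 _) n)
  naturality F G η := by
    refine AddCommGrpCat.hom_ext (AddMonoidHom.ext fun ξ => ?_)
    exact hpull_naturality u n η ξ

theorem isIso_hpullNat {P Q : Scheme.{u}} (u : Q ⟶ P) [IsIso u] (n : ℕ) : IsIso (hpullNat u n) := by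
  haveI : ∀ F, IsIso ((hpullNat u n).app F) := fun F => by
    refine (ConcreteCategory.isIso_iff_bijective _).2 ?_
    show Function.Bijective (EtLim.HpullThen u F (𝟙 _) n)
    have e : EtLim.HpullThen u F (𝟙 _) n = EtCore.Hpull u F n := by
      refine AddMonoidHom.ext fun ξ => ?_
      show ((EtCoh.HF Q n).map (𝟙 _)).hom (EtCore.Hpull u F n ξ) = _
      rw [CategoryTheory.Functor.map_id]
      rfl
    rw [e]
    exact EtAcycLib.bijective_Hpull_of_isIso u F n
  exact NatIso.isIso_of_isIso_app _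

/-- cohomology functors along an isomorphism over a scheme -/
theorem nonempty_HF_iso {T P Q : Scheme.{u}} (θ : Q ≅ P) (r : P ⟶ T) (g : Q ⟶ T) (hg : θ.hom ≫ r = g) (n : ℕ) :
    Nonempty (EtCoh.pull r ⋙ EtCoh.HF P n ≅ EtCoh.pull g ⋙ EtCoh.HF Q n) := by
  haveI := isIso_hpullNat θ.hom n
  exact ⟨Functor.isoWhiskerLeft (EtCoh.pull r) (asIso (hpullNat θ.hom n)) ≪≫
    (Functor.associator _ _ _).symm ≪≫
      Functor.isoWhiskerRight ((EtCore.pullComp θ.hom r).symm ≪≫ EtCore.pullCongr hg) _⟩

variable {S X : Scheme.{u}} (f : X ⟶ S) [QuasiCompact f] [QuasiSeparated f]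

theorem nonempty_iso_pullback {R : Type u} [CommRing R] [HenselianLocalRing R]
    [IsSepClosed (IsLocalRing.ResidueField R)] {h : Spec (CommRingCat.of R) ⟶ S} (D : Model S R h) (n : ℕ) :
    Nonempty (EtCoh.Rpush f n ⋙ EtCoh.stalk (EtFound.cpt R ≫ h) ≅
      EtCoh.pull (pullback.fst f h) ⋙ EtCoh.HF (pullback f h) n) := by
  obtain ⟨e⟩ := nonempty_iso D f n
  obtain ⟨B, Ω, ι, e', fac⟩ := D
  subst fac
  obtain ⟨e₂⟩ := nonempty_HF_iso (pullbackSymmetry f (ym ι R)) (pullback.snd (ym ι R) f)
    (pullback.fst f (ym ι R)) (pullbackSymmetry_hom_comp_snd _ _) n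
  exact ⟨e ≪≫ e₂⟩

/-- the stalk of a higher direct image at a strictly henselian point -/
theorem nonempty_stalk_natIso (s : S) (R : Type u) [CommRing R] [IsLocalRing R]
    [Algebra (S.presheaf.stalk s) R] [IsLocalHom (algebraMap (S.presheaf.stalk s) R)]
    [_root_.Hensel.IsStrictHenselization (S.presheaf.stalk s) R] [IsSepClosed (IsLocalRing.ResidueField R)] (n : ℕ) :
    Nonempty (EtCoh.Rpush f n ⋙ EtCoh.stalk (Hens2.geomPt S s R) ≅
      EtCoh.pull (pullback.fst f (Hens2.specOf S s R)) ⋙ EtCoh.HF (pullback f (Hens2.specOf S s R)) n) := by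
  haveI : HenselianLocalRing R := _root_.Hensel.IsStrictHenselization.henselian (R := S.presheaf.stalk s)
  obtain ⟨D⟩ := exists_model S s R
  exact nonempty_iso_pullback f D n

end Groth.Agent.RpushStalk
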