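import Groth.Agent.H0FBC.LimitSections
import Groth.Agent.EtFound.IntegralCore
import Groth.Agent.AlgSpDec.EtHenzField
import Groth.Prelude.Def_Hens2
import Mathlib.CategoryTheory.Presentable.Directed

/-!
# A strict localization as a directed limit of affine étale neighbourhoods
-/

set_option autoImplicit false
set_option linter.style.haveILetI false
set_option linter.unusedSectionVars false
set_option backward.isDefEq.respectTransparency false
set_option backward.isDefEq.respectTransparency.types false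
universe u

open CategoryTheory CategoryTheory.Limits AlgebraicGeometry Opposite IsLocalRing

namespace Groth.Agent.RpushStalk

open H0PBC H0FBC
open Groth.Agent.Hensel (Henz Nbhd NbhdCat)

/-- a strict henselization as the algebra of all étale neighbourhoods over an affine open -/
structure Model (S : Scheme.{u}) (R : Type u) [CommRing R] (h : Spec (CommRingCat.of R) ⟶ S) where
  /-- the ring of the affine open -/
  B : Type u
  [commRing : CommRing B]
  /-- the field used to index neighbourhoods -/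
  Ω : Type u
  [field : Field Ω]
  [algΩ : Algebra B Ω]
  [algR : Algebra B R]
  /-- the affine open -/
  ι : Spec (CommRingCat.of B) ⟶ S
  [openImm : IsOpenImmersion ι]
  /-- the identification -/
  e : Henz B Ω ≃ₐ[B] R
  fac : ym ι R = h

attribute [instance] Model.commRing Model.field Model.algΩ Model.algR Model.openImm

/-- strict localizations have models -/
theorem exists_model (S : Scheme.{u}) (s : S) (R : Type u) [CommRing R] [IsLocalRing R]
    [Algebra (S.presheaf.stalk s) R] [IsLocalHom (algebraMap (S.presheaf.stalk s) R)]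
    [_root_.Hensel.IsStrictHenselization (S.presheaf.stalk s) R] :
    Nonempty (Model S R (Hens2.specOf S s R)) := by
  obtain ⟨W, hW, hsW, -⟩ := exists_isAffineOpen_mem_and_subset (U := (⊤ : S.Opens)) (x := s) trivial
  let A := S.presheaf.stalk s
  obtain ⟨Ω, _, _, ⟨j⟩⟩ : ∃ (Ω : Type u) (_ : Field Ω) (_ : IsAlgClosed Ω), Nonempty (ResidueField R →+* Ω) :=
    ⟨AlgebraicClosure (ResidueField R), inferInstance, inferInstance, ⟨algebraMap _ _⟩⟩
  let g : Γ(S, W) ⟶ A := S.presheaf.germ W s hsW
  letI : Algebra Γ(S, W) A := g.hom.toAlgebra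
  haveI := hW.isLocalization_stalk ⟨s, hsW⟩
  let M := (hW.primeIdealOf ⟨s, hsW⟩).asIdeal.primeCompl
  letI : Algebra A Ω :=
    ((j.comp (residue R)).comp (algebraMap A R)).toAlgebra
  haveI : IsLocalHom (algebraMap A Ω) := ⟨fun a ha => by
    refine (isUnit_map_iff (algebraMap A R) a).1 ?_
    by_contra hna
    have h0 : residue R (algebraMap A R a) = 0 := (residue_eq_zero_iff _).2 hna
    refine ha.ne_zero ?_
    show j (residue R (algebraMap A R a)) = 0
    rw [h0, map_zero]⟩
  letI : Algebra Γ(S, W) Ω := ((algebraMap A Ω).comp g.hom).toAlgebra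
  haveI : IsScalarTower Γ(S, W) A Ω := .of_algebraMap_eq' rfl
  letI : Algebra Γ(S, W) R := ((algebraMap A R).comp g.hom).toAlgebra
  haveI : IsScalarTower Γ(S, W) A R := .of_algebraMap_eq' rfl
  let a := AlgSpDec.EtHenz.fromLocal Γ(S, W) A Ω M
  letI : Algebra A (Henz Γ(S, W) Ω) := a.toRingHom.toAlgebra
  haveI : IsScalarTower Γ(S, W) A (Henz Γ(S, W) Ω) :=
    .of_algebraMap_eq' (a.comp_algebraMap).symm
  obtain ⟨h1, h2⟩ := AlgSpDec.EtHenz.isStrictHenselization Γ(S, W) A Ω M
  obtain ⟨e₁⟩ := Groth.Agent.Hensel.exists_algEquiv_strictHenz A (Henz Γ(S, W) Ω)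
  obtain ⟨e₂⟩ := Groth.Agent.Hensel.exists_algEquiv_strictHenz A R
  refine ⟨{ B := Γ(S, W), Ω := Ω, ι := hW.fromSpec, e := (e₁.symm.trans e₂).restrictScalars Γ(S, W), fac := ?_ }⟩
  show Spec.map (CommRingCat.ofHom ((algebraMap A R).comp g.hom)) ≫ hW.fromSpec = _
  rw [CommRingCat.ofHom_comp, Spec.map_comp, Category.assoc]
  exact congrArg (Spec.map (CommRingCat.ofHom (algebraMap A R)) ≫ ·) (hW.fromSpecStalk_eq_fromSpecStalk hsW)

variable {S : Scheme.{u}} {R : Type u} [CommRing R] {h : Spec (CommRingCat.of R) ⟶ S} (D : Model S R h)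

/-- the map from a neighbourhood to `R` -/
noncomputable def Model.gR (N : Nbhd D.B D.Ω) : N.B →ₐ[D.B] R := D.e.toAlgHom.comp (Henz.ofB N)

theorem Model.gR_comp {N M : Nbhd D.B D.Ω} (α : N.B →ₐ[D.B] M.B) (hα : M.toK.comp α = N.toK) :
    (D.gR M).comp α = D.gR N := by
  rw [Model.gR, AlgHom.comp_assoc, Henz.ofB_comp α hα]
  rfl

theorem Model.isColim : DirColim.IsColim D.gR where
  surj z := by
    obtain ⟨N, b, hb⟩ := Henz.exists_ofB (D.e.symm z)
    exact ⟨N, b, (congrArg D.e hb).trans (D.e.apply_symm_apply z)⟩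
  directed N M := by
    obtain ⟨P, α, β, hα, hβ⟩ := N.exists_hom₂ M
    exact ⟨P, ⟨⟨α, D.gR_comp α hα⟩⟩, ⟨⟨β, D.gR_comp β hβ⟩⟩⟩
  ker N x hx := by
    obtain ⟨M, α, hα, h0⟩ := Henz.exists_of_ofB_eq_zero (D.e.injective (hx.trans (map_zero D.e).symm))
    exact ⟨M, ⟨α, D.gR_comp α hα⟩, h0⟩

/-- the directed colimit of the neighbourhoods along a cofinal functor -/
noncomputable def Model.cocone {α : Type u} [Preorder α] (F : α ⥤ NbhdCat D.B D.Ω) :
    Cocone (F ⋙ Hensel.nbhdDiagram D.B D.Ω ⋙ CategoryTheory.Under.forget _) where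
  pt := CommRingCat.of R
  ι :=
    { app := fun a => CommRingCat.ofHom (D.gR (F.obj a).N).toRingHom
      naturality := fun a b f => CommRingCat.hom_ext (RingHom.ext fun x =>
        congr($(D.gR_comp (F.map f).1 (F.map f).2) x)) }

/-- `R` is the colimit of the neighbourhoods along a cofinal functor -/
noncomputable def Model.isColimitCocone {α : Type u} [Preorder α] (F : α ⥤ NbhdCat D.B D.Ω) [F.Final] :
    IsColimit (D.cocone F) := by
  have hC : IsConnected (NbhdCat D.B D.Ω) := IsFiltered.isConnected _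
  let c₀ : Cocone (Hensel.nbhdDiagram D.B D.Ω ⋙ CategoryTheory.Under.forget _) :=
    (CategoryTheory.Under.forget _).mapCocone (Hensel.nbhdCocone D.B D.Ω)
  let h₀ : IsColimit c₀ := isColimitOfPreserves _ (Hensel.isColimitNbhdCocone D.B D.Ω)
  let e : CommRingCat.of (Henz D.B D.Ω) ≅ CommRingCat.of R := D.e.toRingEquiv.toCommRingCatIso
  exact ((Functor.Final.isColimitWhiskerEquiv F c₀).symm h₀).ofIsoColimit
    (Cocone.ext e (fun a => by rfl))

section limit

variable {T : Scheme.{u}} (f : T ⟶ S) {α : Type u} [Preorder α] [IsDirected α (· ≤ ·)] [Nonempty α]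
  (F : α ⥤ NbhdCat D.B D.Ω)

/-- the base changes of the stages -/
noncomputable def Model.stages : αᵒᵖ ⥤ Scheme.{u} where
  obj a := PB f D.ι (F.obj a.unop).N.B
  map h := pmap f D.ι (F.map h.unop).1
  map_id a := by
    refine pullback.hom_ext ?_ ?_
    · rw [pmap_fst, Category.id_comp, unop_id, CategoryTheory.Functor.map_id]
      exact (congrArg (pullback.fst _ _ ≫ ·) (Spec.map_id _)).trans (Category.comp_id _)
    · rw [pmap_snd, Category.id_comp]
  map_comp {a b c} h h' :=
    Eq.trans (congrArg (fun k : F.obj c.unop ⟶ F.obj a.unop => pmap f D.ι k.1) (F.map_comp h'.unop h.unop))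
      (pmap_comp f D.ι (F.map h'.unop).1 (F.map h.unop).1).symm

/-- the cone from the base change to `R` -/
noncomputable def Model.cone : Cone (D.stages f F) where
  pt := PB f D.ι R
  π :=
    { app := fun a => pmap f D.ι (D.gR (F.obj a.unop).N)
      naturality := fun _ _ g => (Category.id_comp _).trans
        ((congrArg (pmap f D.ι) (D.gR_comp (F.map g.unop).1 (F.map g.unop).2).symm).trans
          (pmap_comp f D.ι (F.map g.unop).1 (D.gR _)).symm) }

theorem Model.isAffineHom_stages {a b : αᵒᵖ} (g : a ⟶ b) : IsAffineHom ((D.stages f F).map g) := by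
  refine MorphismProperty.of_isPullback (P := @IsAffineHom) (IsPullback.of_right ?_
    (pmap_fst f D.ι (F.map g.unop).1) (IsPullback.of_hasPullback (ym D.ι (F.obj b.unop).N.B) f).flip).flip
    (inferInstanceAs (IsAffineHom (Spec.map (CommRingCat.ofHom (F.map g.unop).1.toRingHom))))
  rw [pmap_snd, spec_map_ym]
  exact (IsPullback.of_hasPullback (ym D.ι (F.obj a.unop).N.B) f).flip

/-- the cone is a limit -/
noncomputable def Model.isLimitCone [F.Final] : IsLimit (D.cone f F) :=
  haveI : IsConnected αᵒᵖ := IsCofiltered.isConnected _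
  let τ : D.stages f F ⟶ (F ⋙ Hensel.nbhdDiagram D.B D.Ω ⋙ CategoryTheory.Under.forget _).op ⋙ Scheme.Spec :=
    { app := fun a => pullback.fst (ym D.ι (F.obj a.unop).N.B) f
      naturality := fun _ _ g => pmap_fst f D.ι (F.map g.unop).1 }
  isLimitOfIsPullbackOfIsConnected τ
    (D.cone f F) (Scheme.Spec.mapCone (D.cocone F).op)
    { hom := (pullback.fst (ym D.ι R) f : PB f D.ι R ⟶ Spec (CommRingCat.of R))
      w := fun a => (pmap_fst f D.ι (D.gR (F.obj a.unop).N)).symm }
    (fun a => IsPullback.of_right (h₁₁ := (D.cone f F).π.app a)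
      (h₁₂ := pullback.snd (ym D.ι (F.obj a.unop).N.B) f)
      (h₂₁ := Spec.map (CommRingCat.ofHom (D.gR (F.obj a.unop).N).toRingHom))
      (h₂₂ := ym D.ι (F.obj a.unop).N.B) (v₁₃ := f)
      (v₁₁ := pullback.fst (ym D.ι R) f) (v₁₂ := pullback.fst (ym D.ι (F.obj a.unop).N.B) f)
      (by
        show IsPullback (pmap f D.ι (D.gR (F.obj a.unop).N) ≫ pullback.snd _ _) _ _ _
        rw [pmap_snd, spec_map_ym]
        exact (IsPullback.of_hasPullback (ym D.ι R) f).flip)
      (pmap_fst f D.ι _) (IsPullback.of_hasPullback (ym D.ι (F.obj a.unop).N.B) f).flip)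
    (isLimitOfPreserves Scheme.Spec (D.isColimitCocone F).op)

end limit

end Groth.Agent.RpushStalk
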