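import Groth.Agent.RpushStalk.Phi

/-!
# The comparison in degree zero is bijective
-/

set_option autoImplicit false
set_option linter.style.haveILetI false
set_option linter.unusedSectionVars false
set_option linter.unusedVariables false
set_option backward.isDefEq.respectTransparency false
set_option backward.isDefEq.respectTransparency.types false
universe u

open CategoryTheory CategoryTheory.Limits AlgebraicGeometry Opposite

namespace Groth.Agent.RpushStalk

open H0PBC H0FBC EtLim8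
open Groth.Agent.Hensel (Henz Nbhd NbhdCat)

variable {S T : Scheme.{u}} {R : Type u} [CommRing R] [HenselianLocalRing R]
  [IsSepClosed (IsLocalRing.ResidueField R)] {h : Spec (CommRingCat.of R) ⟶ S} (D : Model S R h) (f : T ⟶ S)

/-- the point of a stage below the closed point -/
noncomputable def Model.pt (N : Nbhd D.B D.Ω) :
    (Scheme.pointSmallEtale (EtFound.cpt R ≫ ym D.ι R)).fiber.obj (stageEt D.ι N.B) :=
  CategoryTheory.Over.homMk (EtFound.cpt R ≫ Spec.map (CommRingCat.ofHom (D.gR N).toRingHom))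
    ((Category.assoc _ _ _).trans (congrArg (EtFound.cpt R ≫ ·) (spec_map_ym D.ι (D.gR N))))

theorem Model.lift_pt (N : Nbhd D.B D.Ω) :
    lift (ym D.ι R) (stageEt D.ι N.B) (D.pt N) = Spec.map (CommRingCat.ofHom (D.gR N).toRingHom) :=
  lift_unique (ym D.ι R) (stageEt D.ι N.B) (D.pt N) _ (spec_map_ym D.ι (D.gR N)) rfl

theorem Model.toBcLift_pt (N : Nbhd D.B D.Ω) :
    toBcLift (ym D.ι R) (stageEt D.ι N.B) (D.pt N) f = pmap f D.ι (D.gR N) := by
  refine pullback.hom_ext ?_ ?_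
  · refine (pullback.lift_fst _ _ _).trans (Eq.trans ?_ (pmap_fst f D.ι _).symm)
    rw [D.lift_pt]
  · exact (pullback.lift_snd _ _ _).trans (pmap_snd f D.ι _).symm

/-- the stages are cofinal among the neighbourhoods of the closed point -/
theorem Model.exists_stage (U : S.Etale) (v : (Scheme.pointSmallEtale (EtFound.cpt R ≫ ym D.ι R)).fiber.obj U) :
    ∃ (N : Nbhd D.B D.Ω) (k : stageEt D.ι N.B ⟶ U),
      (Scheme.pointSmallEtale (EtFound.cpt R ≫ ym D.ι R)).fiber.map k (D.pt N) = v := by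
  haveI : AlgebraicGeometry.Etale U.hom := U.prop
  let q := lift (ym D.ι R) U v
  have hq : q ≫ U.hom = ym D.ι R := lift_w _ U v
  let x := q.base (IsLocalRing.closedPoint R)
  obtain ⟨W, hW, hxW, hWι⟩ := exists_isAffineOpen_mem_and_subset (U := U.hom ⁻¹ᵁ D.ι.opensRange) (x := x) (by
    refine ⟨Spec.map (CommRingCat.ofHom (algebraMap D.B R)) (IsLocalRing.closedPoint R), ?_⟩
    exact (Scheme.Hom.comp_apply _ D.ι _).symm.trans
      ((congrArg (fun k : Spec (CommRingCat.of R) ⟶ S => k (IsLocalRing.closedPoint R)) hq.symm).trans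
        (Scheme.Hom.comp_apply q U.hom _)))
  obtain ⟨φ, hφ⟩ := Spec.map_surjective (IsOpenImmersion.lift D.ι (hW.fromSpec ≫ U.hom) (by
    rintro _ ⟨t, rfl⟩
    rw [Scheme.Hom.comp_apply]
    exact hWι (hW.range_fromSpec.le ⟨t, rfl⟩)))
  have hφι : Spec.map φ ≫ D.ι = hW.fromSpec ≫ U.hom := by rw [hφ, IsOpenImmersion.lift_fac]
  letI : Algebra D.B Γ(U.left, W) := φ.hom.toAlgebra
  haveI : Algebra.Etale D.B Γ(U.left, W) := by
    haveI : AlgebraicGeometry.Etale (Spec.map φ ≫ D.ι) := by rw [hφι]; infer_instance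
    haveI : AlgebraicGeometry.Etale (Spec.map φ) := AlgebraicGeometry.Etale.of_comp (Spec.map φ) D.ι
    exact RingHom.etale_algebraMap.1 ((HasRingHomProperty.Spec_iff (P := @AlgebraicGeometry.Etale)).1 ‹_›)
  obtain ⟨χ, hχ⟩ := Spec.map_surjective (IsOpenImmersion.lift hW.fromSpec q (by
    rintro _ ⟨t, rfl⟩
    exact hW.range_fromSpec.ge
      (((IsLocalRing.specializes_closedPoint t).map q.continuous).mem_open W.isOpen hxW)))
  have hχq : Spec.map χ ≫ hW.fromSpec = q := by rw [hχ, IsOpenImmersion.lift_fac]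
  have hχB : φ ≫ χ = CommRingCat.ofHom (algebraMap D.B R) := by
    refine Spec.map_injective ((cancel_mono D.ι).1 ?_)
    rw [Spec.map_comp, Category.assoc, hφι, ← Category.assoc, hχq, hq]
  obtain ⟨N, ψ, hψ⟩ := D.isColim.exists_lift
    ({ χ.hom with commutes' := fun b => congr($hχB b) } : Γ(U.left, W) →ₐ[D.B] R)
  refine ⟨N, MorphismProperty.Over.homMk (Spec.map (CommRingCat.ofHom ψ.toRingHom) ≫ hW.fromSpec) ?_ trivial, ?_⟩
  · show (Spec.map _ ≫ hW.fromSpec) ≫ U.hom = ym D.ι N.B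
    rw [Category.assoc, ← hφι]
    exact spec_map_ym D.ι ψ
  · apply CategoryTheory.Over.OverMorphism.ext
    show (EtFound.cpt R ≫ Spec.map (CommRingCat.ofHom (D.gR N).toRingHom)) ≫
      Spec.map (CommRingCat.ofHom ψ.toRingHom) ≫ hW.fromSpec = v.left
    rw [Category.assoc, ← Category.assoc (Spec.map (CommRingCat.ofHom (D.gR N).toRingHom)), ← Spec.map_comp,
      ← CommRingCat.ofHom_comp]
    have e : (D.gR N).toRingHom.comp ψ.toRingHom = χ.hom := congrArg AlgHom.toRingHom hψ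
    rw [e]
    exact (congrArg (EtFound.cpt R ≫ ·) hχq).trans (cpt_lift _ U v)

variable (F : EtCoh.Ab T)

/-- germs of the comparison at a stage -/
theorem germ_phiHom_pt (N : Nbhd D.B D.Ω)
    (τ : ToType (F.obj.obj (op ((EtCoh.bc f).obj (stageEt D.ι N.B)))))
    (Ω' : Type u) [Field Ω'] [IsSepClosed Ω'] (ζ : Spec (CommRingCat.of Ω') ⟶ PB f D.ι R) :
    germ ((EtCoh.pull (pullback.snd (ym D.ι R) f)).obj F)
        (phiHom (ym D.ι R) f F (stageEt D.ι N.B) (D.pt N) τ) ζ ζ (Category.comp_id _) =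
      toPullStalk (pullback.snd (ym D.ι R) f) F ζ (ζ ≫ pullback.snd (ym D.ι R) f) rfl
        (germ F τ (ζ ≫ pullback.snd (ym D.ι R) f) (ζ ≫ pmap f D.ι (D.gR N)) (stage_pt f D.ι ζ)) := by
  let a := toBcLift (ym D.ι R) (stageEt D.ι N.B) (D.pt N) f
  let L := liftBc (pullback.snd (ym D.ι R) f) (V := (EtCoh.bc f).obj (stageEt D.ι N.B))
    (W := EtCoh.top (pullback (ym D.ι R) f)) a (toBcLift_w _ _ _ f)
  have hL : (ζ ≫ L.left) ≫ ((EtCoh.bc (pullback.snd (ym D.ι R) f)).obj
      ((EtCoh.bc f).obj (stageEt D.ι N.B))).hom = ζ :=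
    (Category.assoc _ _ _).trans ((congrArg (ζ ≫ ·) (MorphismProperty.Over.w L)).trans (Category.comp_id _))
  refine (germ_map ((EtCoh.pull (pullback.snd (ym D.ι R) f)).obj F) L
    (pullSect (pullback.snd (ym D.ι R) f) F τ) ζ ζ (Category.comp_id _) (ζ ≫ L.left) hL rfl).trans ?_
  refine germ_pullSect (pullback.snd (ym D.ι R) f) F ζ _ rfl τ (ζ ≫ L.left) hL _ (stage_pt f D.ι ζ) ?_
  rw [Category.assoc]
  exact congrArg (ζ ≫ ·) ((liftBc_fst _ _ _).trans (D.toBcLift_pt f N))

variable [QuasiCompact f] [QuasiSeparated f]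

theorem surjective_phiApp : Function.Surjective (phiApp (ym D.ι R) f F) := by
  intro σ
  obtain ⟨N, τ, hτ⟩ := exists_stage_section f D.ι F D.isColim σ
  refine ⟨(Scheme.pointSmallEtale (EtFound.cpt R ≫ ym D.ι R)).toPresheafFiber _ (D.pt N)
    ((EtCoh.push f).obj F).obj τ, (phiApp_germ (ym D.ι R) f F _ (D.pt N) τ).trans ?_⟩
  refine section_ext ((EtCoh.pull (pullback.snd (ym D.ι R) f)).obj F) _ _ fun Ω' _ _ ξ a ha => ?_
  obtain rfl : a = ξ := (Category.comp_id a).symm.trans ha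
  exact (germ_phiHom_pt D f F N τ Ω' a).trans (hτ Ω' a).symm

theorem injective_phiApp : Function.Injective (phiApp (ym D.ι R) f F) := by
  rw [injective_iff_map_eq_zero]
  intro x hx
  let P := Scheme.pointSmallEtale (EtFound.cpt R ≫ ym D.ι R)
  let G := ((EtCoh.push f).obj F).obj
  obtain ⟨U, v, τ₀, rfl⟩ := P.toPresheafFiber_jointly_surjective (P := G) x
  obtain ⟨N, k, rfl⟩ := D.exists_stage U v
  have e : P.toPresheafFiber U (P.fiber.map k (D.pt N)) G τ₀ =
      P.toPresheafFiber _ (D.pt N) G (G.map k.op τ₀) := (P.toPresheafFiber_w_apply k (D.pt N) G τ₀).symm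
  rw [e] at hx ⊢
  generalize G.map k.op τ₀ = τ at hx ⊢
  replace hx := (phiApp_germ (ym D.ι R) f F _ (D.pt N) τ).symm.trans hx
  obtain ⟨M, φ, hφ⟩ := exists_stage_eq f D.ι F D.isColim N τ 0 fun Ω' _ _ ζ => by
    refine toPullStalk_injective (pullback.snd (ym D.ι R) f) F ζ _ rfl ?_
    refine (germ_phiHom_pt D f F N τ Ω' ζ).symm.trans (Eq.trans ?_ (germ_phiHom_pt D f F N 0 Ω' ζ))
    exact congrArg (fun y => germ ((EtCoh.pull (pullback.snd (ym D.ι R) f)).obj F) y ζ ζ (Category.comp_id _))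
      (hx.trans (map_zero (phiHom (ym D.ι R) f F (stageEt D.ι N.B) (D.pt N))).symm)
  have hpt : P.fiber.map (stageMap D.ι φ.1) (D.pt M) = D.pt N := by
    apply CategoryTheory.Over.OverMorphism.ext
    show (EtFound.cpt R ≫ Spec.map (CommRingCat.ofHom (D.gR M).toRingHom)) ≫
      Spec.map (CommRingCat.ofHom φ.1.toRingHom) = EtFound.cpt R ≫ Spec.map (CommRingCat.ofHom (D.gR N).toRingHom)
    rw [Category.assoc, ← Spec.map_comp, ← CommRingCat.ofHom_comp]
    have e1 : (D.gR M).toRingHom.comp φ.1.toRingHom = (D.gR N).toRingHom := RingHom.ext fun b => φ.apply b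
    rw [e1]
  refine (congrArg (fun z => P.toPresheafFiber (stageEt D.ι N.B) z G τ) hpt.symm).trans ?_
  refine (P.toPresheafFiber_w_apply (stageMap D.ι φ.1) (D.pt M) G τ).symm.trans ?_
  have h0 : G.map (stageMap D.ι φ.1).op τ = 0 := hφ.trans (map_zero _)
  exact (congrArg (P.toPresheafFiber _ (D.pt M) G) h0).trans (map_zero _)

theorem isIso_phiApp : IsIso (phiApp (ym D.ι R) f F) :=
  (ConcreteCategory.isIso_iff_bijective _).2 ⟨injective_phiApp D f F, surjective_phiApp D f F⟩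

end Groth.Agent.RpushStalk
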